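import Groth.Agent.Lib.KoszulLim.Functorial
import Mathlib.RingTheory.MvPolynomial.Ideal
import Mathlib.RingTheory.Regular.RegularSequence

/-!
# The direct limit Koszul cohomology of a polynomial ring in its variables

In degree `0` of the cone model every element is a cycle and the transition maps multiply by
`∏ f ^ (m - n)`; the limit is free on the monomials with negative exponents.
-/

universe u

set_option autoImplicit false

open CategoryTheory Limits CohIII CochainComplex RingTheory.Sequence MvPolynomial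
open GrothLib.KoszulMod GrothLib.KoszulLim

noncomputable section

namespace GrothLib.KoszulPoly9

section General

variable {A : Type u} [CommRing A] (M : ModuleCat.{u} A)

/-- The top degree term is the module. -/
def top (n : ℕ) : ∀ (fs : List A) (j : ℤ), j = 0 → ((kp M fs n).X j →ₗ[A] M)
  | [], j, h => (HomologicalComplex.singleObjXIsoOfEq (ComplexShape.up ℤ) 0 M j h).hom.hom
  | f :: fs, j, h => (top n fs j h) ∘ₗ (p₂ (kp M fs n) (f ^ n) j).hom

theorem top_bijective (n : ℕ) : ∀ (fs : List A) (j : ℤ) (h : j = 0), Function.Bijective (top M n fs j h) := by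
  intro fs
  induction fs with
  | nil =>
    intro j h
    exact (HomologicalComplex.singleObjXIsoOfEq (ComplexShape.up ℤ) 0 M j h).toLinearEquiv.bijective
  | cons f fs ih =>
    intro j h
    refine ⟨fun x y hxy => cone_ext (kp M fs n) (f ^ n) j (j + 1) rfl ?_ ((ih j h).1 hxy), fun m => ?_⟩
    · exact (eq_zero_out M _ (j + 1) (Or.inl (by omega)) _).trans
        (eq_zero_out M _ (j + 1) (Or.inl (by omega)) _).symm
    · obtain ⟨a, ha⟩ := (ih j h).2 m
      exact ⟨(i₂ (kp M fs n) (f ^ n) j).hom a, (congrArg _ (p₂_i₂ _ _ _ a)).trans ha⟩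

theorem top_trans {n m : ℕ} (hnm : n ≤ m) : ∀ (fs : List A) (j : ℤ) (h : j = 0) (x : (kp M fs n).X j),
    top M m fs j h (((koszulTrans M n m hnm fs).f j).hom x) =
      (fs.map (· ^ (m - n))).prod • top M n fs j h x := by
  intro fs
  induction fs with
  | nil =>
    intro j h x
    refine Eq.trans ?_ (one_smul A _).symm
    rfl
  | cons f fs ih =>
    intro j h x
    show top M m fs j h ((p₂ (kp M fs m) (f ^ m) j).hom _) = _
    erw [p₂_trans]
    rw [map_smul, ih, List.map_cons, List.prod_cons, mul_smul]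
    rfl

/-- The image of the last differential is `(f ^ n) M`. -/
theorem top_range (n : ℕ) : ∀ (fs : List A) (i j : ℤ) (h : j = 0), i + 1 = j →
    LinearMap.range ((top M n fs j h) ∘ₗ ((kp M fs n).d i j).hom) =
      Ideal.ofList (fs.map (· ^ n)) • (⊤ : Submodule A M) := by
  intro fs
  induction fs with
  | nil =>
    intro i j h hi
    rw [List.map_nil, Ideal.ofList_nil, Submodule.bot_smul, LinearMap.range_eq_bot]
    ext x
    rw [eq_zero_out M _ i (Or.inr (by simp; omega)) x, map_zero, map_zero]
  | cons f fs ih =>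
    intro i j h hij
    have hcomp : ∀ x : (cone (kp M fs n) (f ^ n)).X i,
        top M n (f :: fs) j h (((cone (kp M fs n) (f ^ n)).d i j).hom x) =
          f ^ n • top M n fs j h ((p₁ (kp M fs n) (f ^ n) i j hij).hom x) +
            top M n fs j h (((kp M fs n).d i j).hom ((p₂ (kp M fs n) (f ^ n) i).hom x)) := fun x => by
      show top M n fs j h ((p₂ (kp M fs n) (f ^ n) j).hom _) = _
      rw [p₂_d (kp M fs n) (f ^ n) i j hij x, map_add, map_smul]
    rw [List.map_cons, Ideal.ofList_cons, Submodule.sup_smul, Submodule.ideal_span_singleton_smul, ← ih i j h hij]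
    refine le_antisymm ?_ (sup_le ?_ ?_)
    · rintro _ ⟨x, rfl⟩
      show top M n (f :: fs) j h (((cone (kp M fs n) (f ^ n)).d i j).hom x) ∈ _
      rw [hcomp]
      exact Submodule.add_mem_sup (Submodule.smul_mem_pointwise_smul _ _ _ trivial) ⟨_, rfl⟩
    · rintro _ ⟨m, -, rfl⟩
      obtain ⟨a, rfl⟩ := (top_bijective M n fs j h).2 m
      refine ⟨(i₁ (kp M fs n) (f ^ n) i j hij).hom a, ?_⟩
      show top M n (f :: fs) j h (((cone (kp M fs n) (f ^ n)).d i j).hom _) = _
      rw [hcomp, p₁_i₁, p₂_i₁, map_zero, map_zero, add_zero]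
      rfl
    · rintro _ ⟨b, rfl⟩
      refine ⟨(i₂ (kp M fs n) (f ^ n) i).hom b, ?_⟩
      show top M n (f :: fs) j h (((cone (kp M fs n) (f ^ n)).d i j).hom _) = _
      rw [hcomp, p₁_i₂, p₂_i₂, map_zero, smul_zero, zero_add]
      rfl

variable (fs : List A) {p : ℕ}

theorem deg_eq_zero (hp : p = fs.length) : deg fs p = 0 := by simp [deg, hp]

theorem iCycles_bijective (hp : p = fs.length) (n : ℕ) :
    Function.Bijective ((kp M fs n).iCycles (deg fs p)).hom := by
  refine ⟨(ModuleCat.mono_iff_injective _).1 inferInstance, fun x => exists_cycles_lift rfl ?_⟩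
  exact eq_zero_out M _ _ (Or.inl (by rw [deg_eq_zero fs hp]; norm_num)) _

/-- The cycles in top degree are the module. -/
def topCycles (hp : p = fs.length) (n : ℕ) : (kp M fs n).cycles (deg fs p) ≃ₗ[A] M :=
  (LinearEquiv.ofBijective _ (iCycles_bijective M fs hp n)).trans
    (LinearEquiv.ofBijective _ (top_bijective M n fs (deg fs p) (deg_eq_zero fs hp)))

/-- The class of an element in the limit. -/
def cls (hp : p = fs.length) (n : ℕ) : M →ₗ[A] koszulHLim fs M p :=
  (Module.DirectLimit.of A ℕ _ (sys fs M p) n) ∘ₗ ((kp M fs n).homologyπ (deg fs p)).hom ∘ₗ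
    (topCycles M fs hp n).symm.toLinearMap

theorem sys_cls (hp : p = fs.length) {n m : ℕ} (h : n ≤ m) (s : M) :
    sys fs M p n m h (((kp M fs n).homologyπ (deg fs p)).hom ((topCycles M fs hp n).symm s)) =
      ((kp M fs m).homologyπ (deg fs p)).hom ((topCycles M fs hp m).symm ((fs.map (· ^ (m - n))).prod • s)) := by
  refine (homologyMap_π (koszulTrans M n m h fs) (deg fs p) _).trans (congrArg _ ?_)
  apply (topCycles M fs hp m).injective
  rw [LinearEquiv.apply_symm_apply]
  show top M m fs _ _ (((kp M fs m).iCycles (deg fs p)).hom _) = _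
  erw [cyclesMap_i, top_trans]
  exact congrArg _ ((topCycles M fs hp n).apply_symm_apply s)

theorem cls_compat (hp : p = fs.length) {n m : ℕ} (h : n ≤ m) (s : M) :
    cls M fs hp m ((fs.map (· ^ (m - n))).prod • s) = cls M fs hp n s := by
  show Module.DirectLimit.of A ℕ _ (sys fs M p) m _ = Module.DirectLimit.of A ℕ _ (sys fs M p) n _
  erw [← sys_cls M fs hp h s]
  exact Module.DirectLimit.of_f

theorem exists_cls (hp : p = fs.length) (x : koszulHLim fs M p) : ∃ (n : ℕ) (s : M), cls M fs hp n s = x := by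
  obtain ⟨n, y, rfl⟩ := Module.DirectLimit.exists_of x
  obtain ⟨c, hc⟩ := (ModuleCat.epi_iff_surjective ((kp M fs n).homologyπ (deg fs p))).1 inferInstance y
  refine ⟨n, topCycles M fs hp n c, ?_⟩
  show Module.DirectLimit.of A ℕ _ (sys fs M p) n
    (((kp M fs n).homologyπ (deg fs p)).hom ((topCycles M fs hp n).symm (topCycles M fs hp n c))) = _
  rw [LinearEquiv.symm_apply_apply]
  exact congrArg _ hc

theorem exists_of_cls_eq_zero (hp : p = fs.length) {n : ℕ} {s : M} (h : cls M fs hp n s = 0) :
    ∃ m, n ≤ m ∧ (fs.map (· ^ (m - n))).prod • s ∈ Ideal.ofList (fs.map (· ^ m)) • (⊤ : Submodule A M) := by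
  obtain ⟨m, hnm, hm⟩ := Module.DirectLimit.of.zero_exact (f := sys fs M p) h
  refine ⟨m, hnm, ?_⟩
  erw [sys_cls M fs hp hnm s] at hm
  obtain ⟨w, hw⟩ := (π_eq_zero_iff (show deg fs p - 1 + 1 = deg fs p by ring) _).1 hm
  rw [← top_range M m fs (deg fs p - 1) (deg fs p) (deg_eq_zero fs hp) (by ring)]
  refine ⟨w, ?_⟩
  show top M m fs _ _ (((kp M fs m).d _ _).hom w) = _
  erw [hw]
  exact (topCycles M fs hp m).apply_symm_apply _

theorem subsingleton_of_isWeaklyRegular (hreg : ∀ n : ℕ, IsWeaklyRegular M (fs.map (· ^ n)))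
    (hp : p ≠ fs.length) : Subsingleton (koszulHLim fs M p) := by
  refine subsingleton_of_forall_eq 0 fun x => ?_
  obtain ⟨n, y, rfl⟩ := Module.DirectLimit.exists_of x
  haveI : Subsingleton (koszulHPow fs M p n : Type u) :=
    ModuleCat.subsingleton_of_isZero
      (isZero_homology_of_isWeaklyRegular M (fs.map (· ^ n)) (hreg n) _ (by omega))
  exact (congrArg _ (Subsingleton.elim y 0)).trans (map_zero _)

end General

section Poly

variable {A : Type u} [CommRing A] {r : ℕ}

local notation "S" => MvPolynomial (Fin r) A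

theorem mem_span_pow_X_iff (s : Set (Fin r)) (n : ℕ) (x : S) :
    x ∈ Ideal.span ((fun j => (X j : S) ^ n) '' s) ↔ ∀ e ∈ x.support, ∃ j ∈ s, n ≤ e j := by
  have h1 : (fun j => (X j : S) ^ n) '' s = (fun e => monomial e (1 : A)) '' ((fun j => Finsupp.single j n) '' s) := by
    rw [Set.image_image]
    exact Set.image_congr fun j _ => X_pow_eq_monomial
  rw [h1, mem_ideal_span_monomial_image]
  simp [Finsupp.single_le_iff]

theorem isWeaklyRegular_pow_X (n : ℕ) :
    IsWeaklyRegular S ((List.ofFn (X : Fin r → S)).map (· ^ n)) := by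
  refine ⟨fun i hi => ?_⟩
  have hi' : i < r := by simpa using hi
  have hget : ((List.ofFn (X : Fin r → S)).map (· ^ n))[i] = X ⟨i, hi'⟩ ^ n := by simp
  rw [hget]
  have hI : Ideal.ofList (((List.ofFn (X : Fin r → S)).map (· ^ n)).take i) • (⊤ : Submodule S S) =
      Ideal.span ((fun j => (X j : S) ^ n) '' {j | (j : ℕ) < i}) := by
    rw [smul_eq_mul, Ideal.mul_top]
    refine congrArg Ideal.span (Set.ext fun x => ?_)
    simp only [Set.mem_setOf_eq, Set.mem_image, List.mem_iff_getElem, List.getElem_take, List.getElem_map,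
      List.getElem_ofFn, List.length_take, List.length_map, List.length_ofFn]
    constructor
    · rintro ⟨j, hj, rfl⟩; exact ⟨⟨j, by omega⟩, by show j < i; omega, rfl⟩
    · rintro ⟨j, hj, rfl⟩; exact ⟨j, by have := j.2; omega, rfl⟩
  rw [hI, isSMulRegular_quotient_iff_mem_of_smul_mem]
  intro x hx
  rw [smul_eq_mul] at hx
  rw [mem_span_pow_X_iff] at hx ⊢
  intro e he
  obtain ⟨j, hj, hle⟩ := hx (Finsupp.single ⟨i, hi'⟩ n + e) (by
    rw [mem_support_iff, X_pow_eq_monomial, coeff_monomial_mul, one_mul]
    exact mem_support_iff.1 he)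
  refine ⟨j, hj, ?_⟩
  rwa [Finsupp.add_apply, Finsupp.single_eq_of_ne (fun h => by
    have : (j : ℕ) = i := congrArg Fin.val h
    exact absurd hj (by simp [this])), zero_add] at hle

/-- The exponent `N - 1 - b`. -/
def comp (N : ℕ) (b : Fin r → ℕ) : Fin r →₀ ℕ := Finsupp.equivFunOnFinite.symm fun i => N - 1 - b i

@[simp] theorem comp_apply (N : ℕ) (b : Fin r → ℕ) (i : Fin r) : comp N b i = N - 1 - b i := rfl

theorem comp_injOn {N : ℕ} {b b' : Fin r → ℕ} (hb : ∀ i, b i < N) (hb' : ∀ i, b' i < N)
    (h : comp N b = comp N b') : b = b' := funext fun i => by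
  have := DFunLike.congr_fun h i
  simp only [comp_apply] at this
  have := hb i
  have := hb' i
  omega

/-- The least bound for the entries. -/
def bound (b : Fin r → ℕ) : ℕ := Finset.univ.sup b + 1

theorem lt_bound (b : Fin r → ℕ) (i : Fin r) : b i < bound b :=
  Nat.lt_succ_of_le (Finset.le_sup (Finset.mem_univ i))

theorem prod_pow_X (k : ℕ) :
    ((List.ofFn (X : Fin r → S)).map (· ^ k)).prod = monomial (Finsupp.equivFunOnFinite.symm fun _ => k) 1 := by
  rw [List.map_ofFn, List.prod_ofFn, monomial_eq, C_1, one_mul, Finsupp.prod_fintype _ _ fun i => pow_zero _]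
  rfl

variable (r A) in
/-- The limit in top degree. -/
abbrev L : Type u := koszulHLim (List.ofFn (X : Fin r → S)) (ModuleCat.of S S) r

theorem len : r = (List.ofFn (X : Fin r → S)).length := (List.length_ofFn).symm

/-- The class of a polynomial. -/
abbrev cl (N : ℕ) : S →ₗ[S] L A r := cls (ModuleCat.of S S) (List.ofFn (X : Fin r → S)) len N

theorem cl_monomial_eq (b : Fin r → ℕ) (a : A) {n N : ℕ} (hb : ∀ i, b i < n) (h : n ≤ N) :
    cl N (monomial (comp N b) a) = cl n (monomial (comp n b) a) := by
  rw [← cls_compat (ModuleCat.of S S) (List.ofFn (X : Fin r → S)) len h (monomial (comp n b) a)]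
  refine congrArg _ ?_
  rw [smul_eq_mul, prod_pow_X, monomial_mul, one_mul]
  refine congrArg (fun e => monomial e a) (Finsupp.ext fun i => ?_)
  have := hb i
  simp only [comp_apply, Finsupp.add_apply, Finsupp.equivFunOnFinite_symm_apply_apply]
  omega

variable (r A) in
/-- The monomial map. -/
def Φ : ((Fin r → ℕ) →₀ A) →ₗ[A] RestrictScalars A S (L A r) :=
  Finsupp.linearCombination A fun b => (RestrictScalars.addEquiv A S (L A r)).symm (cl (bound b) (monomial (comp (bound b) b) 1))

theorem Φ_eq (f : (Fin r → ℕ) →₀ A) {N : ℕ} (hN : ∀ b ∈ f.support, ∀ i, b i < N) :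
    RestrictScalars.addEquiv A S (L A r) (Φ A r f) = cl N (f.sum fun b a => monomial (comp N b) a) := by
  rw [Φ, Finsupp.linearCombination_apply, map_finsuppSum, map_finsuppSum]
  refine Finsupp.sum_congr fun b hb => ?_
  rw [RestrictScalars.addEquiv_map_smul, AddEquiv.apply_symm_apply, MvPolynomial.algebraMap_eq, ← map_smul,
    smul_eq_mul, C_mul_monomial, mul_one]
  rw [← cl_monomial_eq b (f b) (lt_bound b) (le_max_left (bound b) N),
    cl_monomial_eq b (f b) (hN b hb) (le_max_right (bound b) N)]

theorem Φ_bijective : Function.Bijective (Φ A r) := by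
  classical
  refine ⟨?_, fun x => ?_⟩
  · refine (injective_iff_map_eq_zero _).2 fun f hf => ?_
    let N := f.support.sup bound
    have hN : ∀ b ∈ f.support, ∀ i, b i < N := fun b hb i => (lt_bound b i).trans_le (Finset.le_sup hb)
    have h0 : cl N (f.sum fun b a => monomial (comp N b) a) = 0 := by
      rw [← Φ_eq f hN, hf, map_zero]
    obtain ⟨m, hm, hmem⟩ := exists_of_cls_eq_zero _ _ _ h0
    by_contra hne
    obtain ⟨b, hb⟩ := Finsupp.support_nonempty_iff.2 hne
    rw [smul_eq_mul, smul_eq_mul, Ideal.mul_top, prod_pow_X, Finsupp.sum, Finset.mul_sum] at hmem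
    simp only [monomial_mul, one_mul] at hmem
    have hI : (Ideal.ofList ((List.ofFn (X : Fin r → S)).map (· ^ m))) =
        Ideal.span ((fun j => (X j : S) ^ m) '' Set.univ) := by
      rw [List.map_ofFn]
      refine congrArg Ideal.span (Set.ext fun x => ?_)
      simp
    rw [hI, mem_span_pow_X_iff] at hmem
    obtain ⟨j, -, hj⟩ := hmem (Finsupp.equivFunOnFinite.symm (fun _ => m - N) + comp N b) (by
      rw [mem_support_iff, coeff_sum, Finset.sum_eq_single b]
      · rw [coeff_monomial, if_pos rfl]; exact Finsupp.mem_support_iff.1 hb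
      · intro b' hb' hne'
        rw [coeff_monomial, if_neg]
        exact fun h => hne' (comp_injOn (hN b' hb') (hN b hb) (add_left_cancel h))
      · exact fun h => absurd hb h)
    have := hN b hb j
    simp only [Finsupp.add_apply, comp_apply, Finsupp.equivFunOnFinite_symm_apply_apply] at hj
    omega
  · obtain ⟨n, s, hs⟩ := exists_cls (ModuleCat.of S S) (List.ofFn (X : Fin r → S)) len
      (RestrictScalars.addEquiv A S (L A r) x)
    suffices key : ∀ q : S, ∃ f, RestrictScalars.addEquiv A S (L A r) (Φ A r f) = cl n q by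
      obtain ⟨f, hf⟩ := key s
      exact ⟨f, (RestrictScalars.addEquiv A S (L A r)).injective (hf.trans hs)⟩
    intro q
    induction q using MvPolynomial.induction_on' with
    | add q q' hq hq' =>
      obtain ⟨f, hf⟩ := hq
      obtain ⟨f', hf'⟩ := hq'
      exact ⟨f + f', by rw [map_add, map_add, hf, hf', map_add]⟩
    | monomial e a =>
      by_cases he : ∀ i, e i < n
      · refine ⟨Finsupp.single (fun i => n - 1 - e i) a, ?_⟩
        rw [Φ_eq _ (N := n) fun b hb i => by
          rw [Finset.mem_singleton.1 (Finsupp.support_single_subset hb)]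
          have := he i
          show n - 1 - e i < n
          omega, Finsupp.sum_single_index (by simp)]
        refine congrArg _ (congrArg (fun e => monomial e a) (Finsupp.ext fun i => ?_))
        have := he i
        simp only [comp_apply]
        omega
      · push Not at he
        obtain ⟨i, hi⟩ := he
        refine ⟨0, ?_⟩
        rw [map_zero, map_zero]
        symm
        -- a multiple of `X i ^ n` is a boundary
        show Module.DirectLimit.of S ℕ _ _ n _ = 0
        refine (congrArg _ ?_).trans (map_zero _)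
        refine (π_eq_zero_iff (show deg (List.ofFn (X : Fin r → S)) r - 1 + 1 = deg (List.ofFn (X : Fin r → S)) r by ring) _).2 ?_
        have hmem : (monomial e a : S) ∈ LinearMap.range ((top (ModuleCat.of S S) n (List.ofFn (X : Fin r → S)) _
            (deg_eq_zero _ len)) ∘ₗ ((kp (ModuleCat.of S S) (List.ofFn (X : Fin r → S)) n).d
              (deg (List.ofFn (X : Fin r → S)) r - 1) (deg (List.ofFn (X : Fin r → S)) r)).hom) := by
          rw [top_range _ n _ _ _ _ (by ring), smul_eq_mul, Ideal.mul_top]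
          refine Ideal.mem_of_dvd _ ?_ (Ideal.subset_span (show (X i : S) ^ n ∈ _ from
            List.mem_map.2 ⟨X i, List.mem_ofFn.2 ⟨i, rfl⟩, rfl⟩))
          rw [X_pow_eq_monomial, monomial_dvd_monomial]
          exact ⟨Or.inr (Finsupp.single_le_iff.2 hi), one_dvd a⟩
        obtain ⟨w, hw⟩ := hmem
        exact ⟨w, (top_bijective _ n _ _ _).1 (hw.trans ((topCycles (ModuleCat.of S S) (List.ofFn (X : Fin r → S)) len n).apply_symm_apply (monomial e a)).symm)⟩

/-- The top limit is free. -/
theorem free : Module.Free A (RestrictScalars A S (L A r)) :=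
  Module.Free.of_equiv (LinearEquiv.ofBijective (Φ A r) Φ_bijective)

theorem subsingleton {i : ℕ} (hi : i ≠ r) :
    Subsingleton (koszulHLim (List.ofFn (X : Fin r → S)) (ModuleCat.of S S) i) :=
  subsingleton_of_isWeaklyRegular _ _ isWeaklyRegular_pow_X fun h => hi (h.trans (len (A := A)).symm)

end Poly

end GrothLib.KoszulPoly9
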